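import Cfsg.Agent.H449.Reg.Types
import Cfsg.Agent.H449.Reg.Abs
import Cfsg.Agent.H884.ElT
import Cfsg.Agent.H587.KB8.Geo
import Cfsg.Agent.LieClassical.OrthFinite

/-!
# S3691-T16: elements of primitive prime order for a polar form

* `fx_even`, `fx_odd` : dimension of the fixed space
* `sp_not_two_odd`, `o_not_two_odd`, `sp_not_two` : no field of degree two
* `E_dvd` : primes of `Ω(Q)`
-/

set_option autoImplicit false
set_option linter.unusedSectionVars false

namespace Cfsg.Agent.H522.Rg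

open Module QuadraticMap Cfsg Cfsg.Geo Cfsg.Agent.LieClassical.OrthCore Cfsg.Agent.LieClassical.OrthTrans
  Cfsg.Agent.H884.El Cfsg.Agent.H955 Cfsg.Agent.H954.TSing Cfsg.Agent.H449.Reg
open Cfsg.Agent.H951 (fx cm Inv)
open scoped MatrixGroups Matrix

universe u v

section abs

variable {F : Type u} [Field F] [Fintype F] {V : Type v} [AddCommGroup V] [Module F V] [FiniteDimensional F V]
  {Q : QuadraticForm F V} {H : Subgroup (V ≃ₗ[F] V)}

theorem rank_nul (x : Module.End F V) : finrank F (fx x) + finrank F (cm x) = finrank F V := by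
  have h := LinearMap.finrank_range_add_finrank_ker (x - 1)
  rw [add_comm]
  exact h

theorem coe_ne_one {x : V ≃ₗ[F] V} (hx1 : x ≠ 1) : (x : Module.End F V) ≠ 1 := by
  intro h0
  apply hx1
  apply LinearEquiv.ext
  intro v
  exact congrArg (fun e : Module.End F V => e v) h0

theorem coe_pow' (x : V ≃ₗ[F] V) (n : ℕ) : ((x ^ n : V ≃ₗ[F] V) : Module.End F V) = (x : Module.End F V) ^ n := by
  induction n with
  | zero => rfl
  | succ n ih =>
    rw [pow_succ, pow_succ, ← ih]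
    rfl

theorem coe_pow_one {x : V ≃ₗ[F] V} {r : ℕ} (hxr : x ^ r = 1) : (x : Module.End F V) ^ r = 1 := by
  rw [← coe_pow', hxr]
  rfl

/-- (T16.1) -/
theorem fx_even {x : V ≃ₗ[F] V} {e r : ℕ} (hr : PP (Nat.card F) e r) (he : 2 ≤ e) (hn : finrank F V < 2 * e)
    (hxr : x ^ r = 1) (hx1 : x ≠ 1) : finrank F (fx (x : Module.End F V)) + e = finrank F V := by
  have := Fact.mk hr.prime
  have h0 := hr.ne0 (F := F) (by omega)
  have hp := coe_pow_one hxr
  have h1 : e ∣ finrank F (cm (x : Module.End F V)) := by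
    rw [← ord_eq hr]
    exact H951.ord_dvd_finrank hp H951.inv_cm (H951.inf_fx_of_le_cm h0 hp le_rfl)
  have h2 : finrank F (cm (x : Module.End F V)) ≤ finrank F V := Submodule.finrank_le _
  have h3 : finrank F (cm (x : Module.End F V)) ≠ 0 := fun h => cm_ne_bot (coe_ne_one hx1) (Submodule.finrank_eq_zero.1 h)
  have h4 := rank_nul (x : Module.End F V)
  obtain ⟨A, hA⟩ := h1
  have hA1 : A = 1 := by
    have h4 : A < 2 := by
      by_contra hcon
      push Not at hcon
      have := Nat.mul_le_mul_left e hcon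
      omega
    have h5 : A ≠ 0 := by rintro rfl; omega
    omega
  rw [hA1, mul_one] at hA
  omega

/-- the average of `Q` over `⟨x⟩` -/
noncomputable def avg (Q : QuadraticForm F V) (x : V ≃ₗ[F] V) (r : ℕ) : QuadraticForm F V :=
  ∑ i ∈ Finset.range r, Q.comp ((x ^ i : V ≃ₗ[F] V) : V →ₗ[F] V)

theorem avg_apply (x : V ≃ₗ[F] V) (r : ℕ) (v : V) : avg Q x r v = ∑ i ∈ Finset.range r, Q ((x ^ i) v) := by
  unfold avg
  rw [QuadraticMap.sum_apply]
  rfl

theorem avg_inv {x : V ≃ₗ[F] V} {r : ℕ} (hxr : x ^ r = 1) (v : V) : avg Q x r (x v) = avg Q x r v := by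
  rw [avg_apply, avg_apply]
  have h1 : ∀ i, Q ((x ^ i) (x v)) = Q ((x ^ (i + 1)) v) := by
    intro i
    rw [pow_succ]
    rfl
  rw [Finset.sum_congr rfl fun i _ => h1 i]
  have h2 := Finset.sum_range_succ (fun i => Q ((x ^ i) v)) r
  have h3 := Finset.sum_range_succ' (fun i => Q ((x ^ i) v)) r
  rw [h2, hxr] at h3
  have h4 : Q ((1 : V ≃ₗ[F] V) v) = Q ((x ^ 0) v) := by rw [pow_zero]
  rw [h4] at h3
  exact (add_right_cancel h3).symm

theorem polar_pow {x : V ≃ₗ[F] V} (hx : ∀ u v, polar Q (x u) (x v) = polar Q u v) (i : ℕ) (u v : V) :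
    polar Q ((x ^ i) u) ((x ^ i) v) = polar Q u v := by
  induction i with
  | zero => rfl
  | succ i ih =>
    rw [pow_succ']
    change polar Q (x ((x ^ i) u)) (x ((x ^ i) v)) = _
    rw [hx, ih]

theorem polar_avg {x : V ≃ₗ[F] V} (hx : ∀ u v, polar Q (x u) (x v) = polar Q u v) (r : ℕ) (u v : V) :
    polar (avg Q x r) u v = (r : F) * polar Q u v := by
  have h1 : polar (avg Q x r) u v = ∑ i ∈ Finset.range r, polar Q ((x ^ i) u) ((x ^ i) v) := by
    simp only [polar, avg_apply, map_add, Finset.sum_sub_distrib]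
  rw [h1, Finset.sum_congr rfl fun i _ => polar_pow hx i u v, Finset.sum_const, Finset.card_range, nsmul_eq_mul]

theorem nondeg_avg (hQ : Nondeg Q) {x : V ≃ₗ[F] V} (hx : ∀ u v, polar Q (x u) (x v) = polar Q u v) {r : ℕ}
    (h0 : (r : F) ≠ 0) : Nondeg (avg Q x r) := by
  intro u hu
  refine hQ u fun v => ?_
  have h1 := hu v
  rw [polar_avg hx] at h1
  exact (mul_eq_zero.1 h1).resolve_left h0

/-- (T16.2) characteristic two, symplectic: average `Q` over `⟨x⟩` to get an invariant quadratic form with the same polar form -/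
theorem fx_odd (_h2 : (2 : F) = 0) (hQ : Nondeg Q) {x : V ≃ₗ[F] V} (hx : ∀ u v, polar Q (x u) (x v) = polar Q u v)
    {e r : ℕ} (hr : PP (Nat.card F) e r) (he : Odd e) (he3 : 3 ≤ e) (hn : finrank F V < 4 * e)
    (hxr : x ^ r = 1) (hx1 : x ≠ 1) : finrank F (fx (x : Module.End F V)) + 2 * e = finrank F V := by
  have h0 := hr.ne0 (F := F) (by omega)
  have hI : Iso (avg Q x r) (x : Module.End F V) r :=
    Iso.mk' hr (by omega) (coe_pow_one hxr) (fun v => avg_inv hxr v)
  have h1 := (hI.odd_case (nondeg_avg hQ hx h0) (coe_ne_one hx1) hr he hn).1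
  have h4 := rank_nul (x : Module.End F V)
  omega

theorem AExt.mono {s : ℕ} {H' : Subgroup (V ≃ₗ[F] V)} (hle : H' ≤ H) (h : AExt s H) : AExt s H' := by
  obtain ⟨n, φ, K, hs, hK, hN⟩ := h
  exact ⟨n, φ, K, hs, hK, (Subgroup.map_mono hle).trans hN⟩

/-- (T16.3') the same for isometries, any characteristic -/
theorem o_not_two_odd (hQ : Nondeg Q) (hH : H ≤ O Q)
    {e r : ℕ} (hr : PP (Nat.card F) e r) (he : Odd e) (he3 : 3 ≤ e) (hn : finrank F V < 4 * e) (hrH : r ∣ Nat.card H)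
    (hA : AExt 2 H) : False := by
  obtain ⟨n, φ, K, -, hK, hle⟩ := hA
  have hn' := finrank_of_equiv φ
  have hc : Nat.card (H.map (cj φ).toMonoidHom) = Nat.card H := Subgroup.card_map_of_injective (cj φ).injective
  refine no_quadratic_field (nondeg_tq hQ φ) (H := H.map (cj φ).toMonoidHom) ?_ hr he he3
    (by rw [Fintype.card_fin]; omega) (by rw [hc]; exact hrH) hK hle
  rintro _ ⟨x, hx, rfl⟩
  exact cj_iso φ (hH hx)

/-- (T16.3) -/
theorem sp_not_two_odd (_h2 : (2 : F) = 0) (hQ : Nondeg Q) (hH : ∀ h ∈ H, ∀ u v, polar Q (h u) (h v) = polar Q u v)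
    {e r : ℕ} (hr : PP (Nat.card F) e r) (he : Odd e) (he3 : 3 ≤ e) (hn : finrank F V < 4 * e) (hrH : r ∣ Nat.card H)
    (hA : AExt 2 H) : False := by
  have hV : Finite V := Module.finite_of_finite F
  have hfin : Finite (V ≃ₗ[F] V) := Finite.of_injective (fun g : V ≃ₗ[F] V => (g : V → V)) DFunLike.coe_injective
  have := Fact.mk hr.prime
  obtain ⟨x, hx⟩ := exists_prime_orderOf_dvd_card' r hrH
  have hxr : (x : V ≃ₗ[F] V) ^ r = 1 := by
    rw [← Subgroup.coe_pow, ← hx, pow_orderOf_eq_one]; rfl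
  have hox : orderOf (x : V ≃ₗ[F] V) = r := by rw [Subgroup.orderOf_coe, hx]
  have h0 := hr.ne0 (F := F) (by omega)
  have hxp := hH x x.2
  have hle : Subgroup.zpowers (x : V ≃ₗ[F] V) ≤ H := Subgroup.zpowers_le.2 x.2
  refine o_not_two_odd (H := Subgroup.zpowers (x : V ≃ₗ[F] V)) (nondeg_avg hQ hxp h0) ?_ hr he he3 hn
    (by rw [Nat.card_zpowers, hox]) (AExt.mono hle hA)
  rw [Subgroup.zpowers_le]
  exact mem_O.2 fun v => avg_inv hxr v

/-- (T16.4) two parities (`no_field2_gen`), `dim V = j` -/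
theorem sp_not_two (hQ : Nondeg Q) (hH : ∀ h ∈ H, ∀ u v, polar Q (h u) (h v) = polar Q u v)
    {j k r s : ℕ} (hr : PP (Nat.card F) j r) (hs : PP (Nat.card F) k s) (hn : finrank F V < 2 * j) (hn' : finrank F V < 2 * k)
    (hirr : ∀ W : Submodule F V, (∀ h ∈ H, ∀ w ∈ W, h w ∈ W) → W = ⊥ ∨ W = ⊤)
    (hj : Even j) (hk : Even k) (hj2 : 2 ≤ j) (hk2 : 2 ≤ k) (hpar : Odd (j / 2 + k / 2)) (hrH : r ∣ Nat.card H)
    (hsH : s ∣ Nat.card H) (hA : AExt 2 H) : False := by
  obtain ⟨n, φ, K, -, hK, hle⟩ := hA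
  have hd := finrank_of_equiv φ
  have hc : Nat.card (H.map (cj φ).toMonoidHom) = Nat.card H := Subgroup.card_map_of_injective (cj φ).injective
  have hnd : (polarBilin (tq Q φ)).Nondegenerate := by
    have h1 := nondeg_tq hQ φ
    refine ⟨fun u hu => h1 u hu, fun u hu => h1 u fun w => ?_⟩
    have := hu w
    rw [polar_comm]
    exact this
  refine no_field2_gen (H := H.map (cj φ).toMonoidHom) (B := polarBilin (tq Q φ)) ?_ hnd ?_ hr hs hj hk
    (by rw [Fintype.card_fin]; omega) (by rw [Fintype.card_fin]; omega) hj2 hk2 hpar (by rw [hc]; exact hrH)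
    (by rw [hc]; exact hsH) hK hle
  · intro W hW
    have h1 := hirr (W.comap (φ : V →ₗ[F] (Fin n → F))) (fun h hh w hw => by
      have h2 := hW (cj φ h : Matrix (Fin n) (Fin n) F) ⟨cj φ h, ⟨h, hh, rfl⟩, rfl⟩
      have h3 := h2 ⟨φ w, hw, rfl⟩
      rw [Matrix.toLin'_apply, cj_apply'] at h3
      exact h3)
    rcases h1 with h1 | h1
    · left
      rw [eq_bot_iff]
      intro w hw
      have h2 : φ.symm w ∈ W.comap (φ : V →ₗ[F] (Fin n → F)) := by
        change φ (φ.symm w) ∈ W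
        rw [φ.apply_symm_apply]; exact hw
      rw [h1, Submodule.mem_bot] at h2
      rw [Submodule.mem_bot, ← φ.apply_symm_apply w, h2, map_zero]
    · right
      rw [eq_top_iff]
      intro w _
      have h2 : φ.symm w ∈ W.comap (φ : V →ₗ[F] (Fin n → F)) := by rw [h1]; trivial
      have h3 : φ (φ.symm w) ∈ W := h2
      rwa [φ.apply_symm_apply] at h3
  · rintro _ ⟨h, hh, rfl⟩ u w
    change polar (tq Q φ) _ _ = polar (tq Q φ) _ _
    rw [polar_tq, polar_tq]
    change polar Q (φ.symm ((cj φ h : Matrix (Fin n) (Fin n) F) *ᵥ u)) (φ.symm ((cj φ h : Matrix (Fin n) (Fin n) F) *ᵥ w)) = _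
    rw [cj_apply, cj_apply, φ.symm_apply_apply, φ.symm_apply_apply]
    exact hH h hh _ _

/-- (T16.5) primes of `Ω(Q)` -/
theorem E_dvd (hQ : Nondeg Q) (hn : 5 ≤ finrank F V) (hev : Even (finrank F V)) {e t : ℕ} (ht : PP (Nat.card F) e t)
    (he : Even e) (he2 : 2 ≤ e) (hen : e < finrank F V) : t ∣ Nat.card (E Q) := by
  have := Fact.mk ht.prime
  have hlt := ht.lt (by omega)
  have ho := ord_eq ht
  obtain ⟨T, hT, hTr, hT1, -, -⟩ := exists_sharp (Q := Q) (r := t) (by omega) (ht.ne0 (by omega))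
    (by rw [ho]; exact he) hQ (A := 1) le_rfl (Or.inl ⟨hev, Or.inl (by rw [ho, mul_one]; exact hen)⟩)
  have hE : T ∈ E Q := H587.KB8.mem_E_of_odd (LieClassical.OrthFinite.good_of_finite hQ hn) hT (ht.odd he2) hTr
  have ho : orderOf T = t := orderOf_eq_prime hTr hT1
  rw [← ho, ← Subgroup.orderOf_mk T hE]
  exact orderOf_dvd_natCard _

end abs

end Cfsg.Agent.H522.Rg
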