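import Cfsg.Agent.H522.Rg.Sect
import Cfsg.Agent.H826.RgF.Defs

/-!
# S3691, reduction of the plus type, box R6 (helper522)

`y1_sec` : a reducible group with `r_(2m-4)`, `r_(m-1)`, without `r_(2m-2)` contains all `r_(2m-6)`.
-/

set_option autoImplicit false
set_option linter.unusedSectionVars false

namespace Cfsg.Agent.H522.Rg

open Module QuadraticMap Cfsg Cfsg.Geo Cfsg.Agent.LieClassical.OrthCore Cfsg.Agent.LieClassical.OrthTrans
  Cfsg.Agent.H884.El Cfsg.Agent.H955 Cfsg.Agent.H954.TSing Cfsg.Agent.H449.Reg Cfsg.Agent.H826.RgF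
open Cfsg.Agent.H951 (fx cm Inv)

section Block

variable {F : Type} [Field F] [Fintype F] {V : Type} [AddCommGroup V] [Module F V] [FiniteDimensional F V]
  {Q : QuadraticForm F V} {B : Subgroup (V ≃ₗ[F] V)} {e r : ℕ}

theorem polar_of_le (hB : B ≤ O Q) : ∀ h ∈ B, ∀ u v, polar Q (h u) (h v) = polar Q u v :=
  fun h hh u v => polar_isom (x := (h : Module.End F V)) (fun w => mem_O.1 (hB hh) w) u v

theorem finite_equiv (F : Type) [Field F] [Fintype F] (V : Type) [AddCommGroup V] [Module F V] [FiniteDimensional F V] :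
    Finite (V ≃ₗ[F] V) := by
  have hV : Finite V := Module.finite_of_finite F
  exact Finite.of_injective (fun g : V ≃ₗ[F] V => (g : V → V)) DFunLike.coe_injective

theorem El_dvd {a : ℕ} (h : El B a) : a ∣ Nat.card B := by
  obtain ⟨g, hg, ho⟩ := h
  rw [← ho]
  exact Subgroup.orderOf_dvd_natCard B hg

/-- a reducible group with an element with a big block: an invariant subspace inside the fixed space -/
theorem exists_small (hQ : Nondeg Q) (hB : ∀ h ∈ B, ∀ u v, polar Q (h u) (h v) = polar Q u v)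
    (hr : PP (Nat.card F) e r) (he : 2 ≤ e) (hn : finrank F V < 2 * e) {y : V ≃ₗ[F] V} (hy : y ∈ B) (hyr : y ^ r = 1)
    (hy1 : y ≠ 1) (hred : Rd B) :
    ∃ W : Submodule F V, W ≠ ⊥ ∧ (∀ a ∈ B, ∀ w ∈ W, a w ∈ W) ∧ finrank F W + e ≤ finrank F V := by
  obtain ⟨W, hW0, hW1, hW⟩ := hred
  have h1 := fx_even hr he hn hyr hy1
  have h2 := rank_nul (y : Module.End F V)
  rcases (iso_zero hr he (coe_pow_one hyr)).le_or hr (by omega) (W := W) (fun w hw => hW y hy w hw) with h3 | h3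
  · refine ⟨W, hW0, hW, ?_⟩
    have := Submodule.finrank_mono h3
    omega
  · refine ⟨perp Q W, ?_, perp_inv hB hW, ?_⟩
    · intro h0
      apply hW1
      rw [← perp_perp hQ W, h0, perp_bot]
    · have h4 := Submodule.finrank_mono h3
      have h5 := finrank_add_perp hQ W
      omega

variable {m r4 a4 i l : ℕ}

/-- no reducible groups with `r_(2m-4)`, `r_(m-1)` in dimension `2m-2` -/
theorem noRd (hQ : Nondeg Q) (hn : finrank F V = 2 * m - 2) (hm : Even m) (hm6 : 6 ≤ m)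
    (hB : ∀ h ∈ B, ∀ u v, polar Q (h u) (h v) = polar Q u v) (hr4 : PP (Nat.card F) (2 * m - 4) r4)
    (hl : PP (Nat.card F) (m - 1) l) {y x : V ≃ₗ[F] V} (hy : y ∈ B) (hyr : y ^ r4 = 1) (hy1 : y ≠ 1)
    (hx : x ∈ B) (hxl : x ^ l = 1) (hx1 : x ≠ 1) : ¬ Rd B := by
  intro hred
  have hodd : Odd (m - 1) := Nat.Even.sub_odd (by omega) hm odd_one
  obtain ⟨W, hW0, hW, hd⟩ := exists_small hQ hB hr4 (by omega) (by omega) hy hyr hy1 hred
  have h1 := fx_odd' hQ (hB x hx) hl hodd (by omega) (by omega) hxl hx1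
  have h2 := (iso_zero hl (by omega) (coe_pow_one hxl)).le_fx hl (W := W) (fun w hw => hW x hx w hw) (by omega)
  apply hW0
  rw [← Submodule.finrank_eq_zero (R := F)]
  have := Submodule.finrank_mono h2
  omega

theorem El_exists (hB4 : El B a4) (ha4 : a4 = r4 ^ i) (hi : 1 ≤ i) (hr4 : r4.Prime) :
    ∃ y ∈ B, y ^ r4 = 1 ∧ y ≠ 1 := by
  obtain ⟨g, hg, ho⟩ := hB4
  obtain ⟨k, h1, h2, h3⟩ := exists_pow_elt hg hi hr4 (ho.trans ha4)
  exact ⟨_, h1, h2, h3⟩

theorem El_exists' (hBl : El B l) (hl : l.Prime) : ∃ y ∈ B, y ^ l = 1 ∧ y ≠ 1 :=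
  El_exists (i := 1) hBl (pow_one l).symm le_rfl hl

theorem gcd_two {s : ℕ} (hm6 : 6 ≤ m) (hs : s.Prime) (h : s ∣ Nat.gcd (2 * m - 2) (2 * m - 4)) : s = 2 := by
  have h1 := h.trans (Nat.gcd_dvd_left _ _)
  have h2 := h.trans (Nat.gcd_dvd_right _ _)
  have h3 := Nat.dvd_sub h1 h2
  rw [show 2 * m - 2 - (2 * m - 4) = 2 by omega] at h3
  exact (Nat.prime_dvd_prime_iff_eq hs Nat.prime_two).1 h3

theorem core_O (hQ : Nondeg Q) (hn : finrank F V = 2 * m - 2) (hm : Even m) (hm6 : 6 ≤ m) (hB : B ≤ O Q)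
    (hr4 : PP (Nat.card F) (2 * m - 4) r4) (ha4 : a4 = r4 ^ i) (hi : 1 ≤ i) (hB4 : El B a4)
    (hl : PP (Nat.card F) (m - 1) l) (hBl : El B l) (h1 : LO F (2 * m - 2) (2 * m - 4) a4 l) :
    ∀ t, PP (Nat.card F) (2 * m - 6) t → t ∣ Nat.card B := by
  intro t ht
  have hfin := finite_equiv F V
  have hodd : Odd (m - 1) := Nat.Even.sub_odd (by omega) hm odd_one
  obtain ⟨y, hy, hyr, hy1⟩ := El_exists hB4 ha4 hi hr4.prime
  obtain ⟨x, hx, hxl, hx1⟩ := El_exists' hBl hl.prime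
  rcases h1 hQ hn B hB hB4 hBl with h | ⟨s, hs, hsd, hA⟩ | h
  · exact absurd h (noRd hQ hn hm hm6 (polar_of_le hB) hr4 hl hy hyr hy1 hx hxl hx1)
  · exfalso
    obtain rfl := gcd_two hm6 hs hsd
    exact o_not_two_odd hQ hB hl hodd (by omega) (by omega) (El_dvd hBl) hA
  · have h2 := E_dvd hQ (by omega) (by rw [hn]; exact ⟨m - 1, by omega⟩) ht ⟨m - 3, by omega⟩ (by omega) (by omega)
    exact h2.trans (Subgroup.card_dvd_of_le h)

theorem core_S (h20 : (2 : F) = 0) (hQ : Nondeg Q) (hn : finrank F V = 2 * m - 2) (hm : Even m) (hm6 : 6 ≤ m)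
    (hB : ∀ h ∈ B, ∀ u v, polar Q (h u) (h v) = polar Q u v)
    (hr4 : PP (Nat.card F) (2 * m - 4) r4) (ha4 : a4 = r4 ^ i) (hi : 1 ≤ i) (hB4 : El B a4)
    (hl : PP (Nat.card F) (m - 1) l) (hBl : El B l) (h1 : LS F (2 * m - 2) (2 * m - 4) a4 l) :
    ∀ t, PP (Nat.card F) (2 * m - 6) t → t ∣ Nat.card B := by
  intro t ht
  have hfin := finite_equiv F V
  have hodd : Odd (m - 1) := Nat.Even.sub_odd (by omega) hm odd_one
  obtain ⟨y, hy, hyr, hy1⟩ := El_exists hB4 ha4 hi hr4.prime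
  obtain ⟨x, hx, hxl, hx1⟩ := El_exists' hBl hl.prime
  have hE : ∀ Q' : QuadraticForm F V, (∀ u v, polar Q' u v = polar Q u v) → E Q' ≤ B → t ∣ Nat.card B := by
    intro Q' hQ' h
    have hn' : Nondeg Q' := fun x hx => hQ x fun y => by rw [← hQ']; exact hx y
    have h2 := E_dvd hn' (by omega) (by rw [hn]; exact ⟨m - 1, by omega⟩) ht ⟨m - 3, by omega⟩ (by omega) (by omega)
    exact h2.trans (Subgroup.card_dvd_of_le h)
  rcases h1 hQ hn B hB hB4 hBl with h | ⟨s, hs, hsd, hA⟩ | h | ⟨Q', hQ', h⟩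
  · exact absurd h (noRd hQ hn hm hm6 hB hr4 hl hy hyr hy1 hx hxl hx1)
  · exfalso
    obtain rfl := gcd_two hm6 hs hsd
    exact sp_not_two_odd h20 hQ hB hl hodd (by omega) (by omega) (El_dvd hBl) hA
  · refine hE Q (fun _ _ => rfl) fun x hx => h x fun u v => ?_
    exact polar_of_le E_le_O x hx u v
  · exact hE Q' hQ' h

/-- the action of `B` on the section `S^⊥ / (S ∩ S^⊥)` -/
theorem exists_sec (hQ : Nondeg Q) (hB : B ≤ O Q) {S T : Submodule F V} (hS : ∀ b ∈ B, ∀ s ∈ S, b s ∈ S)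
    (hT : T = S ⊓ perp Q S) :
    ∃ (U : Submodule F V) (Φ : B →* (U ≃ₗ[F] U)), U ⊔ T = perp Q S ∧ U ⊓ T = ⊥ ∧ Nondeg (res Q U) ∧
      finrank F U + finrank F T + finrank F S = finrank F V ∧
      (∀ (h : B) (u : U), (h : V ≃ₗ[F] V) (u : V) - ((Φ h u : U) : V) ∈ T) ∧
      (∀ {e r i a : ℕ}, PP (Nat.card F) e r → 2 ≤ e → finrank F S < e → a = r ^ i → El B a → El Φ.range a) ∧
      Nat.card Φ.range ∣ Nat.card B ∧
      (∀ g ∈ Φ.range, ∀ u v, polar (res Q U) (g u) (g v) = polar (res Q U) u v) ∧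
      ((∀ t ∈ T, Q t = 0) → Φ.range ≤ O (res Q U)) := by
  have hBp := polar_of_le hB
  obtain ⟨U, hU, hU0, hUn, hUd⟩ := exists_cpl hQ S hT
  have hPi := perp_inv hBp hS
  have hP : ∀ h ∈ B, ∀ v ∈ U, h v ∈ U ⊔ T := by
    intro h hh v hv
    rw [hU]
    exact hPi h hh v (by rw [← hU]; exact Submodule.mem_sup_left hv)
  have hTi : ∀ h ∈ B, ∀ v ∈ T, h v ∈ T := by
    intro h hh v hv
    rw [hT] at hv ⊢
    exact ⟨hS h hh v hv.1, hPi h hh v hv.2⟩
  have hTU : ∀ t ∈ T, ∀ v ∈ U ⊔ T, polar Q t v = 0 := by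
    intro t ht v hv
    rw [hU] at hv
    rw [hT] at ht
    exact hv t ht.1
  obtain ⟨Φ, hΦ⟩ := exists_hom hU0 hP hTi
  refine ⟨U, Φ, hU, hU0, hUn, hUd, hΦ, ?_, Subgroup.card_range_dvd Φ, hom_polar hBp hTU hP hΦ,
    fun h0 => hom_iso hB h0 hTU hΦ⟩
  rintro e r i a hr he hSe rfl ⟨g, hg, ho⟩
  have h1 : ∀ s ∈ S, g s = s := triv_small hr he (by rw [← ho, pow_orderOf_eq_one]) (hS g hg) hSe
  refine ⟨Φ ⟨g, hg⟩, ⟨_, rfl⟩, ?_⟩
  rw [orderOf_hom hBp (by rw [hT]; exact inf_le_left) hU hΦ hg h1, ho]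
  rw [ho, Nat.cast_pow]
  exact pow_ne_zero _ (hr.ne0 (by omega))

/-- primes of `Ω(Q)`, odd characteristic -/
theorem E_dvd_odd (h2 : (2 : F) ≠ 0) (hQ : Nondeg Q) (hn : 5 ≤ finrank F V) {t : ℕ} (ht : PP (Nat.card F) e t)
    (he : Even e) (he2 : 2 ≤ e) (hen : e < finrank F V) : t ∣ Nat.card (E Q) := by
  have := Fact.mk ht.prime
  have hlt := ht.lt (by omega)
  have ho := ord_eq ht
  obtain ⟨T, hT, hTr, hT1, -, -⟩ := exists_sharp (Q := Q) (r := t) (by omega) (ht.ne0 (by omega))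
    (by rw [ho]; exact he) hQ (A := 1) le_rfl (Or.inr ⟨h2, by rw [ho, mul_one]; exact hen⟩)
  have hE : T ∈ E Q := H587.KB8.mem_E_of_odd (LieClassical.OrthFinite.good_of_finite hQ hn) hT (ht.odd he2) hTr
  have ho : orderOf T = t := orderOf_eq_prime hTr hT1
  rw [← ho, ← Subgroup.orderOf_mk T hE]
  exact orderOf_dvd_natCard _

/-- (R6) a reducible group with `r_(2m-4)`, `r_(m-1)`, without `r_(2m-2)`: it contains all `r_(2m-6)`. -/
theorem y1_sec {r2 : ℕ} (hQ : Nondeg Q) (hn : finrank F V = 2 * m) (hm : Even m) (hm6 : 6 ≤ m) (_hP : IsPlus Q)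
    (hB : B ≤ O Q) (hr4 : PP (Nat.card F) (2 * m - 4) r4) (ha4 : a4 = r4 ^ i) (hi : 1 ≤ i) (hB4 : El B a4)
    (hl : PP (Nat.card F) (m - 1) l) (hBl : El B l)
    (hr2 : PP (Nat.card F) (2 * m - 2) r2) (hB2 : ¬ r2 ∣ Nat.card B)
    (h1 : LO F (2 * m - 2) (2 * m - 4) a4 l) (h2 : (2 : F) ≠ 0 → LO F (2 * m - 1) (2 * m - 4) a4 l)
    (h3 : (2 : F) = 0 → LS F (2 * m - 2) (2 * m - 4) a4 l) (hred : Rd B) :
    ∀ t, PP (Nat.card F) (2 * m - 6) t → t ∣ Nat.card B := by
  have hodd : Odd (m - 1) := Nat.Even.sub_odd (by omega) hm odd_one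
  have hBp := polar_of_le hB
  obtain ⟨y, hy, hyr, hy1⟩ := El_exists hB4 ha4 hi hr4.prime
  obtain ⟨x, hx, hox⟩ := id hBl
  have hxl : x ^ l = 1 := by rw [← hox, pow_orderOf_eq_one]
  have hx1 : x ≠ 1 := by
    rintro rfl
    rw [orderOf_one] at hox
    exact hl.prime.one_lt.ne hox
  have hfx := fx_odd' hQ (hBp x hx) hl hodd (by omega) (by omega) hxl hx1
  have hl0 := hl.ne0 (F := F) (by omega)
  have hfxd : finrank F (fx (x : Module.End F V)) = 2 := by omega
  -- the hyperbolic plane is invariant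
  have caseH : (∀ b ∈ B, ∀ s ∈ fx (x : Module.End F V), b s ∈ fx (x : Module.End F V)) →
      ∀ t, PP (Nat.card F) (2 * m - 6) t → t ∣ Nat.card B := by
    intro hinv t ht
    have hnd := nondeg_fx (x := (x : Module.End F V)) hQ (fun v => mem_O.1 (hB hx) v) hl0 (coe_pow_one hxl)
    have hT : (⊥ : Submodule F V) = fx (x : Module.End F V) ⊓ perp Q (fx (x : Module.End F V)) :=
      ((isCompl_perp hnd).inf_eq_bot).symm
    obtain ⟨U, Φ, hU, hU0, hUn, hUd, hΦ, hEl, hcd, hpol, hO⟩ := exists_sec hQ hB hinv hT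
    rw [finrank_bot, hfxd] at hUd
    have hO' := hO fun t ht => by rw [(Submodule.mem_bot F).1 ht, QuadraticMap.map_zero]
    exact (core_O hUn (by omega) hm hm6 hO' hr4 ha4 hi (hEl hr4 (by omega) (by omega) ha4 hB4) hl
      (hEl (i := 1) hl (by omega) (by omega) (pow_one l).symm hBl) h1 t ht).trans hcd
  obtain ⟨S, hS0, hS, hSd⟩ := exists_small hQ hBp hr4 (by omega) (by omega) hy hyr hy1 hred
  have hSx := (iso_zero hl (by omega) (coe_pow_one hxl)).le_fx hl (W := S) (fun w hw => hS x hx w hw) (by omega)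
  have hSd2 := Submodule.finrank_mono hSx
  rw [hfxd] at hSd2
  have hSpos : finrank F S ≠ 0 := fun h0 => hS0 (Submodule.finrank_eq_zero.1 h0)
  intro t ht
  rcases Nat.lt_or_ge 1 (finrank F S) with hS2 | hS1
  · have : S = fx (x : Module.End F V) := Submodule.eq_of_le_of_finrank_eq hSx (by omega)
    rw [this] at hS
    exact caseH hS t ht
  have hS1 : finrank F S = 1 := by omega
  obtain ⟨s, hsS, hs0⟩ := S.ne_bot_iff.1 hS0
  have hspan : S = F ∙ s := by
    symm
    apply Submodule.eq_of_le_of_finrank_eq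
    · rw [Submodule.span_singleton_le_iff_mem]; exact hsS
    · rw [hS1, finrank_span_singleton hs0]
  have hss : polar Q s s = 2 * Q s := by
    rw [polar_self, two_nsmul, two_mul]
  have hmem : ∀ v ∈ S, ∃ c : F, v = c • s := by
    intro v hv
    rw [hspan] at hv
    obtain ⟨c, hc⟩ := Submodule.mem_span_singleton.1 hv
    exact ⟨c, hc.symm⟩
  by_cases hc : polar Q s s = 0
  · -- the section
    have hT : S = S ⊓ perp Q S := by
      refine le_antisymm (le_inf le_rfl fun v hv w hw => ?_) inf_le_left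
      obtain ⟨c, rfl⟩ := hmem v hv
      obtain ⟨d, rfl⟩ := hmem w hw
      rw [polar_smul_left, polar_smul_right, hc, smul_zero, smul_zero]
    obtain ⟨U, Φ, hU, hU0, hUn, hUd, hΦ, hEl, hcd, hpol, hO⟩ := exists_sec hQ hB hS hT
    rw [hS1] at hUd
    have e4 := hEl hr4 (by omega) (by omega) ha4 hB4
    have el := hEl (i := 1) hl (by omega) (by omega) (pow_one l).symm hBl
    by_cases hQs : Q s = 0
    · have hO' := hO fun v hv => by
        obtain ⟨c, rfl⟩ := hmem v hv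
        rw [QuadraticMap.map_smul, hQs, smul_zero]
      exact (core_O hUn (by omega) hm hm6 hO' hr4 ha4 hi e4 hl el h1 t ht).trans hcd
    · have h20 : (2 : F) = 0 := by
        rw [hss] at hc
        exact (mul_eq_zero.1 hc).resolve_right hQs
      exact (core_S h20 hUn (by omega) hm hm6 hpol hr4 ha4 hi e4 hl el (h3 h20) t ht).trans hcd
  · -- odd characteristic, nonsingular point
    have h20 : (2 : F) ≠ 0 := fun h0 => hc (by rw [hss, h0, zero_mul])
    have hT : (⊥ : Submodule F V) = S ⊓ perp Q S := by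
      symm
      rw [eq_bot_iff]
      intro v hv
      obtain ⟨c, rfl⟩ := hmem v hv.1
      have h4 := hv.2 s hsS
      rw [polar_smul_right, smul_eq_mul] at h4
      rw [(mul_eq_zero.1 h4).resolve_right hc, zero_smul]
      exact Submodule.zero_mem _
    obtain ⟨U, Φ, hU, hU0, hUn, hUd, hΦ, hEl, hcd, hpol, hO⟩ := exists_sec hQ hB hS hT
    rw [hS1, finrank_bot] at hUd
    have hO' := hO fun t ht => by rw [(Submodule.mem_bot F).1 ht, QuadraticMap.map_zero]
    have e4 := hEl hr4 (by omega) (by omega) ha4 hB4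
    have el := hEl (i := 1) hl (by omega) (by omega) (pow_one l).symm hBl
    have hΦ' : ∀ (h : B) (u : U), (h : V ≃ₗ[F] V) (u : V) = ((Φ h u : U) : V) := fun h u =>
      sub_eq_zero.1 ((Submodule.mem_bot F).1 (hΦ h u))
    -- the image of `x`
    set x' := Φ ⟨x, hx⟩ with hx'
    have hx'l : x' ^ l = 1 := by
      rw [hx', ← map_pow]
      have : (⟨x, hx⟩ : B) ^ l = 1 := Subtype.ext hxl
      rw [this, map_one]
    have hx'm : x' ∈ Φ.range := ⟨_, rfl⟩
    have hx'1 : x' ≠ 1 := by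
      intro h0
      have h4 : U ≤ fx (x : Module.End F V) := by
        intro u hu
        refine H951.mem_fx.2 ?_
        have h5 := hΦ' ⟨x, hx⟩ ⟨u, hu⟩
        rw [← hx', h0] at h5
        exact h5
      have h5 := Submodule.finrank_mono h4
      omega
    have hfx' := fx_odd' hUn (hpol x' hx'm) hl hodd (by omega) (by omega) hx'l hx'1
    rcases h2 h20 hUn (by omega) _ hO' e4 el with h | ⟨s', hs', hsd, hA⟩ | h
    · obtain ⟨y', hy', hyr', hy1'⟩ := El_exists e4 ha4 hi hr4.prime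
      obtain ⟨W, hW0, hW, hWd⟩ := exists_small hUn hpol hr4 (by omega) (by omega) hy' hyr' hy1' h
      have hWx := (iso_zero hl (by omega) (coe_pow_one hx'l)).le_fx hl (W := W) (fun w hw => hW x' hx'm w hw) (by omega)
      let W' : Submodule F V := W.map U.subtype
      have hW'x : W' ≤ fx (x : Module.End F V) := by
        rintro _ ⟨w, hw, rfl⟩
        refine H951.mem_fx.2 ?_
        have h5 := hΦ' ⟨x, hx⟩ w
        rw [← hx', show x' w = w from H951.mem_fx.1 (hWx hw)] at h5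
        exact h5
      have hW'i : ∀ b ∈ B, ∀ w ∈ W', b w ∈ W' := by
        rintro b hb _ ⟨w, hw, rfl⟩
        refine ⟨Φ ⟨b, hb⟩ w, hW _ ⟨_, rfl⟩ w hw, ?_⟩
        exact (hΦ' ⟨b, hb⟩ w).symm
      have hW'd : finrank F W' = finrank F W := Submodule.finrank_map_subtype_eq U W
      have hWpos : finrank F W ≠ 0 := fun h0 => hW0 (Submodule.finrank_eq_zero.1 h0)
      have hdis : S ⊓ W' = ⊥ := by
        rw [eq_bot_iff, hT]
        refine le_inf inf_le_left fun v hv => ?_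
        obtain ⟨w, hw, rfl⟩ := hv.2
        rw [← hU]
        exact Submodule.mem_sup_left w.2
      have hsum := H951.finrank_sup_of_disj hdis
      have hle : S ⊔ W' ≤ fx (x : Module.End F V) := sup_le hSx hW'x
      have heq : S ⊔ W' = fx (x : Module.End F V) := by
        have := Submodule.finrank_mono hle
        exact Submodule.eq_of_le_of_finrank_eq hle (by omega)
      refine caseH ?_ t ht
      rw [← heq]
      intro b hb v hv
      obtain ⟨a, ha, c, hc', rfl⟩ := Submodule.mem_sup.1 hv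
      rw [map_add]
      exact Submodule.add_mem _ (Submodule.mem_sup_left (hS b hb a ha)) (Submodule.mem_sup_right (hW'i b hb c hc'))
    · exfalso
      have hs3 : s' = 3 := by
        have h4 := Nat.dvd_sub (hsd.trans (Nat.gcd_dvd_left _ _)) (hsd.trans (Nat.gcd_dvd_right _ _))
        rw [show 2 * m - 1 - (2 * m - 4) = 3 by omega] at h4
        exact (Nat.prime_dvd_prime_iff_eq hs' Nat.prime_three).1 h4
      have hlt := hl.lt (by omega)
      have h4 := hA.dvd_fx hx'm hl.prime hx'l (by omega)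
      rw [show finrank F (fx (x' : Module.End F U)) = 1 by omega] at h4
      exact hs'.one_lt.ne' (Nat.dvd_one.1 h4)
    · exfalso
      apply hB2
      have hfin := finite_equiv F U
      have h4 := E_dvd_odd h20 hUn (by omega) hr2 ⟨m - 1, by omega⟩ (by omega) (by omega)
      exact (h4.trans (Subgroup.card_dvd_of_le h)).trans hcd

end Block

end Cfsg.Agent.H522.Rg
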