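import Cfsg.Agent.H522.Rg.PolE

/-!
# S3691: the action on a section `S^⊥ / (S ∩ S^⊥)`, realised on a complement `U`

* `exists_hom` : the homomorphism `Φ : H →* GL(U)`
* `exists_cpl` : the complement `U`, nondegenerate
* `hom_polar`, `hom_iso` : the polar form / the quadratic form is preserved
* `orderOf_hom` : orders prime to the characteristic
* `triv_small` : an element of order a power of a primitive prime divisor is trivial on small invariant subspaces
-/

set_option autoImplicit false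
set_option linter.unusedSectionVars false

namespace Cfsg.Agent.H522.Rg

open Module QuadraticMap Cfsg Cfsg.Geo Cfsg.Agent.LieClassical.OrthCore Cfsg.Agent.LieClassical.OrthTrans
  Cfsg.Agent.H884.El Cfsg.Agent.H955 Cfsg.Agent.H954.TSing Cfsg.Agent.H449.Reg
open Cfsg.Agent.H951 (fx cm Inv)

universe u v

section Hom

variable {F : Type u} [Field F] {V : Type v} [AddCommGroup V] [Module F V]
  {Q : QuadraticForm F V} {H : Subgroup (V ≃ₗ[F] V)}

/-- the action of `H` on `(U ⊔ T) / T`, realised on `U` -/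
theorem exists_hom {U T : Submodule F V} (h0 : U ⊓ T = ⊥)
    (hP : ∀ h ∈ H, ∀ v ∈ U, h v ∈ U ⊔ T) (hT : ∀ h ∈ H, ∀ v ∈ T, h v ∈ T) :
    ∃ Φ : H →* (U ≃ₗ[F] U), ∀ (h : H) (u : U), (h : V ≃ₗ[F] V) (u : V) - ((Φ h u : U) : V) ∈ T := by
  obtain ⟨T', hTT', hc⟩ := (disjoint_iff.2 (by rw [inf_comm]; exact h0) : Disjoint T U).exists_isCompl
  let π : V →ₗ[F] U := Submodule.projectionOnto U T' hc.symm
  have hπU : ∀ u : U, π (u : V) = u := fun u => Submodule.projectionOnto_apply_left hc.symm u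
  have hπT : ∀ t ∈ T, π t = 0 := fun t ht =>
    (Submodule.projectionOnto_apply_eq_zero_iff hc.symm).2 (hTT' ht)
  let φ : (V ≃ₗ[F] V) → (U →ₗ[F] U) := fun h => π ∘ₗ (h : V →ₗ[F] V) ∘ₗ U.subtype
  have hφ : ∀ h (u : U), φ h u = π (h (u : V)) := fun h u => rfl
  have key : ∀ h ∈ H, ∀ u : U, h (u : V) - ((φ h u : U) : V) ∈ T := by
    intro h hh u
    obtain ⟨u', hu', t, ht, e⟩ := Submodule.mem_sup.1 (hP h hh u u.2)
    have e1 : π (h (u : V)) = ⟨u', hu'⟩ := by
      rw [← e, map_add, hπT t ht, add_zero]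
      exact hπU ⟨u', hu'⟩
    rw [hφ, e1, ← e]
    change u' + t - u' ∈ T
    rw [add_sub_cancel_left]
    exact ht
  have hmul : ∀ h ∈ H, ∀ h' ∈ H, ∀ u : U, φ (h * h') u = φ h (φ h' u) := by
    intro h hh h' hh' u
    rw [hφ, hφ h]
    have e1 : (h * h') (u : V) = h ((φ h' u : U) : V) + h (h' (u : V) - ((φ h' u : U) : V)) := by
      rw [← map_add, add_sub_cancel]
      rfl
    rw [e1, map_add, hπT _ (hT h hh _ (key h' hh' u)), add_zero]
  have hone : ∀ u : U, φ 1 u = u := fun u => hπU u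
  refine ⟨{ toFun := fun h => LinearEquiv.ofLinearMap (φ (h : V ≃ₗ[F] V)) (φ ((h⁻¹ : H) : V ≃ₗ[F] V)) ?_ ?_
            map_one' := ?_
            map_mul' := ?_ }, fun h u => key h h.2 u⟩
  · apply LinearMap.ext
    intro u
    change φ (h : V ≃ₗ[F] V) (φ ((h⁻¹ : H) : V ≃ₗ[F] V) u) = u
    rw [← hmul _ h.2 _ (h⁻¹).2, ← Subgroup.coe_mul, mul_inv_cancel]
    exact hone u
  · apply LinearMap.ext
    intro u
    change φ ((h⁻¹ : H) : V ≃ₗ[F] V) (φ (h : V ≃ₗ[F] V) u) = u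
    rw [← hmul _ (h⁻¹).2 _ h.2, ← Subgroup.coe_mul, inv_mul_cancel]
    exact hone u
  · apply LinearEquiv.ext
    intro u
    exact hone u
  · intro a b
    apply LinearEquiv.ext
    intro u
    exact hmul a a.2 b b.2 u

/-- the polar form is preserved -/
theorem hom_polar {U T : Submodule F V} (hH : ∀ h ∈ H, ∀ u v, polar Q (h u) (h v) = polar Q u v)
    (hTU : ∀ t ∈ T, ∀ v ∈ U ⊔ T, polar Q t v = 0) (hP : ∀ h ∈ H, ∀ v ∈ U, h v ∈ U ⊔ T)
    {Φ : H →* (U ≃ₗ[F] U)} (hΦ : ∀ (h : H) (u : U), (h : V ≃ₗ[F] V) (u : V) - ((Φ h u : U) : V) ∈ T) :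
    ∀ e ∈ Φ.range, ∀ a b : U, polar (res Q U) (e a) (e b) = polar (res Q U) a b := by
  rintro _ ⟨h, rfl⟩ a b
  rw [polar_res, polar_res]
  have e1 : polar Q ((h : V ≃ₗ[F] V) (a : V)) ((h : V ≃ₗ[F] V) (b : V)) =
      polar Q ((Φ h a : U) : V) ((h : V ≃ₗ[F] V) (b : V)) := by
    rw [← sub_eq_zero, ← polar_sub_left]
    exact hTU _ (hΦ h a) _ (hP h h.2 b b.2)
  have e2 : polar Q ((Φ h a : U) : V) ((h : V ≃ₗ[F] V) (b : V)) = polar Q ((Φ h a : U) : V) ((Φ h b : U) : V) := by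
    rw [← sub_eq_zero, ← polar_sub_right, polar_comm]
    exact hTU _ (hΦ h b) _ (Submodule.mem_sup_left (Φ h a).2)
  rw [← hH h h.2 a b, e1, e2]

/-- the quadratic form is preserved if `T` is totally singular -/
theorem hom_iso {U T : Submodule F V} (hH : H ≤ O Q) (hT0 : ∀ t ∈ T, Q t = 0)
    (hTU : ∀ t ∈ T, ∀ v ∈ U ⊔ T, polar Q t v = 0)
    {Φ : H →* (U ≃ₗ[F] U)} (hΦ : ∀ (h : H) (u : U), (h : V ≃ₗ[F] V) (u : V) - ((Φ h u : U) : V) ∈ T) :
    Φ.range ≤ O (res Q U) := by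
  rintro _ ⟨h, rfl⟩
  rw [mem_O]
  intro a
  rw [res_apply, res_apply, ← mem_O.1 (hH h.2) a]
  have e1 : (h : V ≃ₗ[F] V) (a : V) = ((h : V ≃ₗ[F] V) (a : V) - ((Φ h a : U) : V)) + ((Φ h a : U) : V) := by
    rw [sub_add_cancel]
  rw [e1, Q_add, hT0 _ (hΦ h a), hTU _ (hΦ h a) _ (Submodule.mem_sup_left (Φ h a).2), zero_add, add_zero]

theorem coe_pow_one' {x : V ≃ₗ[F] V} {r : ℕ} (hxr : x ^ r = 1) : (x : Module.End F V) ^ r = 1 := by
  have h1 : ∀ n : ℕ, ((x ^ n : V ≃ₗ[F] V) : Module.End F V) = (x : Module.End F V) ^ n := by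
    intro n
    induction n with
    | zero => rfl
    | succ n ih =>
      rw [pow_succ, pow_succ, ← ih]
      rfl
  rw [← h1, hxr]
  rfl

/-- a semisimple element trivial on the factors of a chain is trivial -/
theorem eq_one_of_chain {h : V ≃ₗ[F] V} {N : ℕ} (hN : (N : F) ≠ 0) (hh : h ^ N = 1) {P T : Submodule F V}
    (h1 : ∀ v, h v - v ∈ P) (h2 : ∀ v ∈ P, h v - v ∈ T) (h3 : ∀ v ∈ T, h v = v) : h = 1 := by
  have hc := H951.isCompl_fx_cm hN (coe_pow_one' hh)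
  have hz : ∀ z, z ∈ fx (h : Module.End F V) → z ∈ cm (h : Module.End F V) → z = 0 := by
    intro z hz1 hz2
    have : z ∈ fx (h : Module.End F V) ⊓ cm (h : Module.End F V) := ⟨hz1, hz2⟩
    rw [hc.inf_eq_bot] at this
    exact (Submodule.mem_bot F).1 this
  apply LinearEquiv.ext
  intro v
  have e1 : h (h v - v) - (h v - v) = 0 :=
    hz _ (H951.mem_fx.2 (h3 _ (h2 _ (h1 v)))) (H951.mem_cm.2 ⟨h v - v, rfl⟩)
  have e2 : h v - v = 0 := hz _ (H951.mem_fx.2 (sub_eq_zero.1 e1)) (H951.mem_cm.2 ⟨v, rfl⟩)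
  exact sub_eq_zero.1 e2

theorem coe_pow_apply (h : V ≃ₗ[F] V) {v : V} (hv : h v = v) (j : ℕ) : (h ^ j) v = v := by
  induction j with
  | zero => rfl
  | succ j ih =>
    rw [pow_succ]
    change (h ^ j) (h v) = v
    rw [hv, ih]

/-- orders are preserved: `S` fixed pointwise by `h`, `U ⊔ T = S^⊥`, `T ≤ S` -/
theorem orderOf_hom {U T S : Submodule F V} (hH : ∀ h ∈ H, ∀ u v, polar Q (h u) (h v) = polar Q u v)
    (hTS : T ≤ S) (hU : U ⊔ T = perp Q S)
    {Φ : H →* (U ≃ₗ[F] U)} (hΦ : ∀ (h : H) (u : U), (h : V ≃ₗ[F] V) (u : V) - ((Φ h u : U) : V) ∈ T)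
    {h : V ≃ₗ[F] V} (hh : h ∈ H) (hS : ∀ s ∈ S, h s = s) (hN : ((orderOf h : ℕ) : F) ≠ 0) :
    orderOf (Φ ⟨h, hh⟩) = orderOf h := by
  refine Nat.dvd_antisymm ?_ ?_
  · have := orderOf_map_dvd Φ ⟨h, hh⟩
    rwa [Subgroup.orderOf_mk] at this
  · rw [orderOf_dvd_iff_pow_eq_one]
    set j := orderOf (Φ ⟨h, hh⟩) with hj
    have h1 : Φ (⟨h, hh⟩ ^ j) = 1 := by rw [map_pow, hj, pow_orderOf_eq_one]
    have hSj : ∀ s ∈ S, (h ^ j) s = s := fun s hs => coe_pow_apply h (hS s hs) j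
    have hjH : h ^ j ∈ H := H.pow_mem hh j
    refine eq_one_of_chain hN (P := perp Q S) (T := T) (by rw [← pow_mul, mul_comm, pow_mul, pow_orderOf_eq_one, one_pow]) ?_ ?_ ?_
    · intro v s hs
      rw [polar_sub_right]
      have := hH _ hjH s v
      rw [hSj s hs] at this
      rw [this, sub_self]
    · intro v hv
      rw [← hU] at hv
      obtain ⟨a, ha, t, ht, rfl⟩ := Submodule.mem_sup.1 hv
      have h2 := hΦ (⟨h, hh⟩ ^ j) ⟨a, ha⟩
      rw [h1] at h2
      have h3 : (h ^ j) a - a ∈ T := h2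
      rw [map_add, hSj t (hTS ht), add_sub_add_right_eq_sub]
      exact h3
    · intro t ht
      exact hSj t (hTS ht)

end Hom

section Cpl

variable {F : Type u} [Field F] {V : Type v} [AddCommGroup V] [Module F V] [FiniteDimensional F V]
  {Q : QuadraticForm F V} {H : Subgroup (V ≃ₗ[F] V)}

theorem perp_inv (hH : ∀ h ∈ H, ∀ u v, polar Q (h u) (h v) = polar Q u v) {S : Submodule F V}
    (hS : ∀ h ∈ H, ∀ s ∈ S, h s ∈ S) : ∀ h ∈ H, ∀ v ∈ perp Q S, h v ∈ perp Q S := by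
  intro h hh v hv s hs
  have h1 : h (h⁻¹ s) = s := by
    change (h * h⁻¹) s = s
    rw [mul_inv_cancel]; rfl
  rw [← h1, hH h hh]
  exact hv _ (hS _ (H.inv_mem hh) s hs)

/-- the complement of the radical `T` of `S^⊥` in `S^⊥` -/
theorem exists_cpl (hQ : Nondeg Q) (S : Submodule F V) {T : Submodule F V} (hT : T = S ⊓ perp Q S) :
    ∃ U : Submodule F V, U ⊔ T = perp Q S ∧ U ⊓ T = ⊥ ∧ Nondeg (res Q U) ∧
      finrank F U + finrank F T + finrank F S = finrank F V := by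
  have hTP : T ≤ perp Q S := by rw [hT]; exact inf_le_right
  obtain ⟨U, hU, h0, h1⟩ := H951.exists_rel_compl' hTP
  refine ⟨U, by rw [sup_comm]; exact h1, by rw [inf_comm]; exact h0, ?_, ?_⟩
  · rw [nondeg_res_iff]
    intro x hx hxy
    have h2 : x ∈ perp Q (perp Q S) := by
      rw [mem_perp']
      intro w hw
      rw [← h1] at hw
      obtain ⟨t, ht, u, hu, rfl⟩ := Submodule.mem_sup.1 hw
      rw [polar_add_right, hxy u hu, add_zero, polar_comm]
      rw [hT] at ht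
      exact hU hx t ht.1
    rw [perp_perp hQ] at h2
    have h3 : x ∈ T ⊓ U := ⟨by rw [hT]; exact ⟨h2, hU hx⟩, hx⟩
    rw [h0] at h3
    exact (Submodule.mem_bot F).1 h3
  · have h2 := H951.finrank_sup_of_disj h0
    rw [h1] at h2
    have h3 := finrank_add_perp hQ S
    omega

end Cpl

section Small

variable {F : Type u} [Field F] [Fintype F] {V : Type v} [AddCommGroup V] [Module F V] [FiniteDimensional F V]
  {Q : QuadraticForm F V} {H : Subgroup (V ≃ₗ[F] V)} {e r : ℕ}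

theorem iso_zero {x : Module.End F V} (hr : PP (Nat.card F) e r) (he : 2 ≤ e) (hx : x ^ r = 1) :
    Iso (0 : QuadraticForm F V) x r := Iso.mk' hr he hx fun _ => rfl

theorem end_triv_small (hr : PP (Nat.card F) e r) (he : 2 ≤ e) (hd : finrank F V < e) (i : ℕ) {z : Module.End F V}
    (hz : z ^ r ^ i = 1) : z = 1 := by
  induction i with
  | zero => rwa [pow_zero, pow_one] at hz
  | succ i ih =>
    apply ih
    have h1 : (z ^ r ^ i) ^ r = 1 := by rw [← pow_mul, ← pow_succ, hz]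
    have h2 := (iso_zero hr he h1).le_fx hr (W := ⊤) H951.inv_top (by rw [finrank_top]; exact hd)
    apply LinearMap.ext
    intro v
    exact H951.mem_fx.1 (h2 (Submodule.mem_top : v ∈ ⊤))

/-- an element of order `r ^ i` is trivial on an invariant subspace of dimension less than `e` -/
theorem triv_small (hr : PP (Nat.card F) e r) (he : 2 ≤ e) {g : V ≃ₗ[F] V} {i : ℕ} (hg : g ^ r ^ i = 1)
    {W : Submodule F V} (hW : ∀ w ∈ W, g w ∈ W) (hd : finrank F W < e) : ∀ w ∈ W, g w = w := by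
  let z : Module.End F W := (g : V →ₗ[F] V).restrict hW
  have hz : ∀ (n : ℕ) (w : W), (((z ^ n) w : W) : V) = (g ^ n) (w : V) := by
    intro n
    induction n with
    | zero => intro w; rfl
    | succ n ih =>
      intro w
      rw [pow_succ, pow_succ]
      change (((z ^ n) (z w) : W) : V) = (g ^ n) (g (w : V))
      rw [ih]
      rfl
  have h1 : z ^ r ^ i = 1 := by
    apply LinearMap.ext
    intro w
    apply Subtype.ext
    rw [hz, hg]
    rfl
  have h2 := end_triv_small hr he hd i h1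
  intro w hw
  have h3 : ((z ⟨w, hw⟩ : W) : V) = w := by rw [h2]; rfl
  exact h3

/-- fixed space of an element of order `r`, `e` odd, groups preserving the polar form -/
theorem fx_odd' (hQ : Nondeg Q) {x : V ≃ₗ[F] V} (hx : ∀ u v, polar Q (x u) (x v) = polar Q u v)
    (hr : PP (Nat.card F) e r) (he : Odd e) (he3 : 3 ≤ e) (hn : finrank F V < 4 * e)
    (hxr : x ^ r = 1) (hx1 : x ≠ 1) : finrank F (fx (x : Module.End F V)) + 2 * e = finrank F V := by
  have h0 := hr.ne0 (F := F) (by omega)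
  have hI : Iso (avg Q x r) (x : Module.End F V) r :=
    Iso.mk' hr (by omega) (coe_pow_one hxr) (fun v => avg_inv hxr v)
  have h1 := (hI.odd_case (nondeg_avg hQ hx h0) (coe_ne_one hx1) hr he hn).1
  have h4 := rank_nul (x : Module.End F V)
  omega

/-- a power of order `r` -/
theorem exists_pow_elt {A : Subgroup (V ≃ₗ[F] V)} {g : V ≃ₗ[F] V} (hg : g ∈ A) {i : ℕ} (hi : 1 ≤ i) (hr : r.Prime)
    (ho : orderOf g = r ^ i) : ∃ k : ℕ, g ^ k ∈ A ∧ (g ^ k) ^ r = 1 ∧ g ^ k ≠ 1 := by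
  refine ⟨r ^ (i - 1), A.pow_mem hg _, ?_, ?_⟩
  · rw [← pow_mul, ← pow_succ, Nat.sub_add_cancel hi, ← ho, pow_orderOf_eq_one]
  · intro h0
    have h1 := orderOf_dvd_of_pow_eq_one h0
    rw [ho] at h1
    have h2 := Nat.le_of_dvd (pow_pos hr.pos _) h1
    have h3 : r ^ (i - 1) < r ^ i := Nat.pow_lt_pow_right hr.one_lt (by omega)
    omega

end Small

end Cfsg.Agent.H522.Rg
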