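import Cfsg.Agent.H522.Rg.PolF

/-!
# S3691-T16: no quadratic field for two parities, element form without size conditions

* `no_types'` : abstract form for a set `K` of endomorphisms normalised by the irreducible group `H`
* `sp_not_two_elt` : `y, g ∈ H` with `[V, y]`, `[V, g]` of dimensions `j`, `k` even, `j / 2 + k / 2` odd
-/

set_option autoImplicit false
set_option linter.unusedSectionVars false

namespace Cfsg.Agent.H522.Rg

open Module QuadraticMap Cfsg Cfsg.Geo Cfsg.Agent.LieClassical.OrthCore Cfsg.Agent.LieClassical.OrthTrans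
  Cfsg.Agent.H884.El Cfsg.Agent.H955 Cfsg.Agent.H954.TSing Cfsg.Agent.H449.Reg
open Cfsg.Agent.H951 (fx cm Inv)
open scoped MatrixGroups Matrix

universe u v

section Abs

variable {F : Type u} [Field F] [Fintype F] {V : Type v} [AddCommGroup V] [Module F V] [FiniteDimensional F V]
  {B : LinearMap.BilinForm F V} {H : Subgroup (V ≃ₗ[F] V)}

/-- **two parities, any form, no size condition** -/
theorem no_types' (hB : B.Nondegenerate) (hBH : ∀ g ∈ H, ∀ u w, B (g u) (g w) = B u w)
    (hirr : ∀ W : Submodule F V, (∀ h ∈ H, ∀ w ∈ W, h w ∈ W) → W = ⊥ ∨ W = ⊤)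
    {K : Set (Module.End F V)} (hK : ∀ g ∈ H, ∀ c ∈ K, ∃ d ∈ K, ∀ v, c (g v) = g (d v))
    {x y : V ≃ₗ[F] V} (hx : x ∈ H) (hy : y ∈ H) (hx1 : x ≠ 1) (hy1 : y ≠ 1)
    {h₁ h₂ : ℕ} (hxh : (x : Module.End F V) ^ (Fintype.card F ^ h₁ + 1) = 1)
    (hyh : (y : Module.End F V) ^ (Fintype.card F ^ h₂ + 1) = 1) (hpar : Odd (h₁ + h₂))
    (hsx : fx (x : Module.End F V) ⊔ cm (x : Module.End F V) = ⊤) (hsy : fx (y : Module.End F V) ⊔ cm (y : Module.End F V) = ⊤)
    (hxi : ∀ U ≤ cm (x : Module.End F V), Inv (x : Module.End F V) U → U = ⊥ ∨ U = cm (x : Module.End F V))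
    (hyi : ∀ U ≤ cm (y : Module.End F V), Inv (y : Module.End F V) U → U = ⊥ ∨ U = cm (y : Module.End F V))
    (hKx : ∀ c ∈ K, ∀ v, c (x v) = x (c v)) (hKy : ∀ c ∈ K, ∀ v, c (y v) = y (c v))
    {J : Module.End F V} (hJK : J ∈ K) (hJ : J ^ Fintype.card F ^ 2 = J)
    (hinj : ∀ w, (J ^ Fintype.card F) w = J w → w = 0) : False := by
  -- powers of `J`
  have hev : ∀ i : ℕ, J ^ Fintype.card F ^ (2 * i) = J := by
    intro i
    induction i with
    | zero => rw [mul_zero, pow_zero, pow_one]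
    | succ i ih => rw [show 2 * (i + 1) = 2 * i + 2 by ring, pow_add, pow_mul, ih, hJ]
  have hod : ∀ i : ℕ, J ^ Fintype.card F ^ (2 * i + 1) = J ^ Fintype.card F := by
    intro i
    rw [pow_succ, pow_mul, hev]
  -- the left adjoint
  let ad : Module.End F V → Module.End F V := fun c => B.leftAdjointOfNondegenerate hB c
  have hadj : ∀ c u w, B (ad c u) w = B u (c w) := fun c => B.isAdjointPairLeftAdjointOfNondegenerate hB c
  have hsep : ∀ u, (∀ w, B u w = 0) → u = 0 := fun u hu => by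
    have h1 := hB.ker_eq_bot
    have h2 : u ∈ LinearMap.ker B := by
      rw [LinearMap.mem_ker]
      exact LinearMap.ext hu
    rw [h1] at h2
    exact h2
  have hadc : ∀ g ∈ H, ∀ c d : Module.End F V, (∀ v, c (g v) = g (d v)) → ∀ v, ad c (g v) = g (ad d v) := by
    intro g hg c d hcd v
    rw [← sub_eq_zero]
    apply hsep
    intro w
    rw [map_sub, LinearMap.sub_apply, hadj, sub_eq_zero]
    have e1 : g (g⁻¹ w) = w := by
      change (g * g⁻¹) w = w
      rw [mul_inv_cancel]; rfl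
    have e2 : c w = g (d (g⁻¹ w)) := by rw [← hcd, e1]
    rw [e2, hBH g hg]
    conv_rhs => rw [← e1]
    rw [hBH g hg, hadj]
  have hpc : ∀ (n : ℕ) (g : V ≃ₗ[F] V) (c d : Module.End F V), (∀ v, c (g v) = g (d v)) →
      ∀ v, (c ^ n) (g v) = g ((d ^ n) v) := by
    intro n g c d hcd
    induction n with
    | zero => intro v; rfl
    | succ n ih =>
      intro v
      rw [pow_succ', pow_succ']
      change c ((c ^ n) (g v)) = g (d ((d ^ n) v))
      rw [ih, hcd]
  -- comparison
  have key : ∀ {a : V ≃ₗ[F] V} {h : ℕ}, a ∈ H → a ≠ 1 → (a : Module.End F V) ^ (Fintype.card F ^ h + 1) = 1 →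
      fx (a : Module.End F V) ⊔ cm (a : Module.End F V) = ⊤ →
      (∀ U ≤ cm (a : Module.End F V), Inv (a : Module.End F V) U → U = ⊥ ∨ U = cm (a : Module.End F V)) →
      (∀ c ∈ K, ∀ v, c (a v) = a (c v)) → ad J = J ^ Fintype.card F ^ h := by
    intro a h ha ha1 hah hsa hai hKa
    have hJc : ∀ {L : Module.End F V}, (∀ v, L (a v) = a (L v)) →
        ∀ u ∈ cm (a : Module.End F V), L u ∈ cm (a : Module.End F V) := by
      intro L hL u hu
      obtain ⟨v, rfl⟩ := H951.mem_cm.1 hu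
      refine H951.mem_cm.2 ⟨L v, ?_⟩
      rw [map_sub]
      change a (L v) - L v = L (a v) - L v
      rw [hL]
    -- `c' = c ^ N` on the block
    have h1 : ∀ c ∈ K, ∀ u ∈ cm (a : Module.End F V), ad c u = (c ^ Fintype.card F ^ h) u := by
      intro c hc u hu
      rw [← sub_eq_zero]
      apply hsep
      intro w
      have hd : ad c u - (c ^ Fintype.card F ^ h) u ∈ cm (a : Module.End F V) :=
        (cm (a : Module.End F V)).sub_mem (hJc (hadc a ha c c (hKa c hc)) u hu) (hJc (hpc _ a c c (hKa c hc)) u hu)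
      have hw : w ∈ fx (a : Module.End F V) ⊔ cm (a : Module.End F V) := by rw [hsa]; trivial
      obtain ⟨f, hf, c', hc', rfl⟩ := Submodule.mem_sup.1 hw
      rw [map_add]
      have e1 : B (ad c u - (c ^ Fintype.card F ^ h) u) f = 0 := by
        obtain ⟨v, hv⟩ := H951.mem_cm.1 hd
        rw [← hv, map_sub, LinearMap.sub_apply]
        have hf' : a f = f := H951.mem_fx.1 hf
        have e2 := hBH a ha v f
        rw [hf'] at e2
        change B (a v) f - B v f = 0
        rw [e2, sub_self]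
      have e2 : B (ad c u - (c ^ Fintype.card F ^ h) u) c' = 0 := by
        rw [map_sub, LinearMap.sub_apply, hadj, sub_eq_zero]
        have e3 := bil_adj (B := B.flip) (z := (a : Module.End F V)) (J := c) (h := h) (U := cm (a : Module.End F V))
          (fun u w => hBH a ha w u) hah H951.inv_cm hai (hJc (hKa c hc)) (hKa c hc) (u := c') (w := u) hc' hu
        exact e3
      rw [e1, e2, add_zero]
    -- the coincidence set is `H`-invariant
    let D : Submodule F V := ⨅ c : K, LinearMap.ker (ad (c : Module.End F V) - (c : Module.End F V) ^ Fintype.card F ^ h)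
    have hDm : ∀ v, v ∈ D ↔ ∀ c ∈ K, ad c v = (c ^ Fintype.card F ^ h) v := by
      intro v
      rw [Submodule.mem_iInf]
      constructor
      · intro h2 c hc
        have h3 := h2 ⟨c, hc⟩
        rw [LinearMap.mem_ker, LinearMap.sub_apply, sub_eq_zero] at h3
        exact h3
      · rintro h2 ⟨c, hc⟩
        rw [LinearMap.mem_ker, LinearMap.sub_apply, sub_eq_zero]
        exact h2 c hc
    have hD : D = ⊤ := by
      rcases hirr D (by
        intro g hg w hw
        rw [hDm] at hw ⊢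
        intro c hc
        obtain ⟨d, hd, hcd⟩ := hK g hg c hc
        rw [hadc g hg c d hcd, hpc _ g c d hcd, hw d hd]) with h2 | h2
      · exfalso
        have h3 : cm (a : Module.End F V) ≤ D := fun u hu => (hDm u).2 fun c hc => h1 c hc u hu
        rw [h2] at h3
        have h4 : cm (a : Module.End F V) = ⊥ := le_bot_iff.1 h3
        have h5 : (a : Module.End F V) - 1 = 0 := LinearMap.range_eq_bot.1 h4
        apply ha1
        apply LinearEquiv.ext
        intro v
        exact congrArg (fun e : Module.End F V => e v) (sub_eq_zero.1 h5)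
      · exact h2
    apply LinearMap.ext
    intro v
    have : v ∈ D := by rw [hD]; trivial
    exact (hDm v).1 this J hJK
  have e1 := key hx hx1 hxh hsx hxi hKx
  have e2 := key hy hy1 hyh hsy hyi hKy
  have e3 : J ^ Fintype.card F = J := by
    rw [e1] at e2
    rcases Nat.even_or_odd h₁ with h | h
    · obtain ⟨i, hi⟩ := h
      have h' : Odd h₂ := by
        rcases Nat.even_or_odd h₂ with h3 | h3
        · exfalso
          exact (Nat.not_odd_iff_even.2 (Even.add ⟨i, hi⟩ h3)) hpar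
        · exact h3
      obtain ⟨j, hj⟩ := h'
      rw [hj, hod, hi, ← two_mul, hev] at e2
      exact e2.symm
    · obtain ⟨i, hi⟩ := h
      have h' : Even h₂ := by
        rcases Nat.even_or_odd h₂ with h3 | h3
        · exact h3
        · exfalso
          exact (Nat.not_odd_iff_even.2 (Odd.add_odd ⟨i, hi⟩ h3)) hpar
      obtain ⟨j, hj⟩ := h'
      rw [hi, hod, hj, ← two_mul, hev] at e2
      exact e2
  apply hx1
  apply LinearEquiv.ext
  intro v
  have h0 : ∀ w : V, w = 0 := fun w => hinj w (by rw [e3])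
  rw [h0 (x v), h0 ((1 : V ≃ₗ[F] V) v)]

/-- an element of order `t`, `ord_t(q) = e = dim [V, x]`, acts irreducibly on `[V, x]` -/
theorem elt_irr {x : Module.End F V} {e t : ℕ} (ht : PP (Nat.card F) e t) (he : 2 ≤ e) (hx : x ^ t = 1)
    (hcm : finrank F (cm x) = e) : fx x ⊔ cm x = ⊤ ∧ ∀ U ≤ cm x, Inv x U → U = ⊥ ∨ U = cm x := by
  have := Fact.mk ht.prime
  have h0 : (t : F) ≠ 0 := ht.ne0 (by omega)
  have hc := H951.isCompl_fx_cm h0 hx
  refine ⟨hc.sup_eq_top, fun U hU hUi => ?_⟩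
  have h1 : e ∣ finrank F U := by
    rw [← ord_eq ht]
    exact H951.ord_dvd_finrank hx hUi (H951.inf_fx_of_le_cm h0 hx hU)
  have h2 : finrank F U ≤ finrank F (cm x) := Submodule.finrank_mono hU
  rcases Nat.eq_zero_or_pos (finrank F U) with h3 | h3
  · exact Or.inl (Submodule.finrank_eq_zero.1 h3)
  · right
    have := Nat.le_of_dvd h3 h1
    exact Submodule.eq_of_le_of_finrank_eq hU (by omega)

theorem pow_half {x : Module.End F V} {e t : ℕ} (hx : x ^ t = 1) (ht : PP (Nat.card F) e t) (hev : Even e) (he : 1 ≤ e) :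
    x ^ (Fintype.card F ^ (e / 2) + 1) = 1 := by
  have hq := one_lt_q F
  have hcf : Fintype.card F = Nat.card F := (Nat.card_eq_fintype_card).symm
  have h1 : t ∣ Nat.card F ^ e - 1 := (ht.dvd_iff hq.le e).2 dvd_rfl
  have h2 : ¬ t ∣ Nat.card F ^ (e / 2) - 1 := by
    rw [ht.dvd_iff hq.le]
    intro h3
    obtain ⟨c, hc⟩ := hev
    have := Nat.le_of_dvd (by omega) h3
    omega
  have h3 : Nat.card F ^ e - 1 = (Nat.card F ^ (e / 2) + 1) * (Nat.card F ^ (e / 2) - 1) := by
    have h4 := Nat.sq_sub_sq (Nat.card F ^ (e / 2)) 1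
    rw [one_pow, ← pow_mul, Nat.div_mul_cancel (even_iff_two_dvd.1 hev)] at h4
    exact h4
  rw [h3] at h1
  obtain ⟨c, hc⟩ := (ht.prime.dvd_mul.1 h1).resolve_right h2
  rw [hcf, hc, pow_mul, hx, one_pow]

/-- **two parities, any bilinear form**: elements with `dim [V, y] = j`, `dim [V, g] = k` -/
theorem bil_not_two_elt (hB : B.Nondegenerate) (hBH : ∀ g ∈ H, ∀ u w, B (g u) (g w) = B u w)
    (hirr : ∀ W : Submodule F V, (∀ h ∈ H, ∀ w ∈ W, h w ∈ W) → W = ⊥ ∨ W = ⊤)
    {j k r s : ℕ} (hr : PP (Nat.card F) j r) (hs : PP (Nat.card F) k s)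
    (hj : Even j) (hk : Even k) (hj2 : 2 ≤ j) (hk2 : 2 ≤ k) (hpar : Odd (j / 2 + k / 2))
    {y g : V ≃ₗ[F] V} (hy : y ∈ H) (hg : g ∈ H) (hyr : y ^ r = 1) (hgs : g ^ s = 1)
    (hyj : finrank F (fx (y : Module.End F V)) + j = finrank F V)
    (hgk : finrank F (fx (g : Module.End F V)) + k = finrank F V) (hA : AExt 2 H) : False := by
  obtain ⟨n, φ, K, -, hK, hle⟩ := hA
  have hd := finrank_of_equiv φ
  have hyc : finrank F (cm (y : Module.End F V)) = j := by
    have := rank_nul (y : Module.End F V)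
    omega
  have hgc : finrank F (cm (g : Module.End F V)) = k := by
    have := rank_nul (g : Module.End F V)
    omega
  have hne1 : ∀ {a : V ≃ₗ[F] V} {e : ℕ}, 2 ≤ e → finrank F (cm (a : Module.End F V)) = e → a ≠ 1 := by
    rintro a e he hc rfl
    have h1 : cm ((1 : V ≃ₗ[F] V) : Module.End F V) = ⊥ := by
      rw [eq_bot_iff]
      intro v hv
      obtain ⟨w, hw⟩ := H951.mem_cm.1 hv
      rw [Submodule.mem_bot, ← hw]
      exact sub_self w
    rw [h1, finrank_bot] at hc
    omega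
  have hne : Nonempty (Fin n) := by
    have h1 : finrank F (cm (y : Module.End F V)) ≤ finrank F V := Submodule.finrank_le _
    exact ⟨⟨0, by omega⟩⟩
  obtain ⟨J, hJK, hJ2, hJinj⟩ := exists_prim hK
  let KV : Set (Module.End F V) := {f | ∃ c ∈ K, ∀ v, φ (f v) = c *ᵥ φ v}
  let tr : Matrix (Fin n) (Fin n) F → Module.End F V := fun c =>
    (φ.symm : (Fin n → F) →ₗ[F] V) ∘ₗ (Matrix.toLin' c) ∘ₗ (φ : V →ₗ[F] (Fin n → F))
  have htr : ∀ c v, φ (tr c v) = c *ᵥ φ v := by
    intro c v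
    change φ (φ.symm (Matrix.toLin' c (φ v))) = _
    rw [φ.apply_symm_apply, Matrix.toLin'_apply]
  have htp : ∀ (c : Matrix (Fin n) (Fin n) F) (m : ℕ), (tr c) ^ m = tr (c ^ m) := by
    intro c m
    induction m with
    | zero =>
      apply LinearMap.ext
      intro v
      apply φ.injective
      rw [htr, pow_zero, pow_zero, Matrix.one_mulVec]
      rfl
    | succ m ih =>
      apply LinearMap.ext
      intro v
      apply φ.injective
      rw [htr, pow_succ', pow_succ', ih]
      change φ (tr c (tr (c ^ m) v)) = _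
      rw [htr, htr, Matrix.mulVec_mulVec]
  have hcomm : ∀ {a : V ≃ₗ[F] V} {e t : ℕ}, a ∈ H → a ^ t = 1 → PP (Nat.card F) e t → 2 ≤ e →
      ∀ c ∈ KV, ∀ v, c (a v) = a (c v) := by
    intro a e t ha hat ht he c hc v
    obtain ⟨c, hcK, hcv⟩ := hc
    have h1 := comm_field Nat.prime_two hK (hle ⟨a, ha, rfl⟩ : cj φ a ∈ subalgebraNormalizer K) ht.prime
      (by have := ht.lt (by omega); omega) (by rw [← map_pow, hat, map_one]) c hcK
    apply φ.injective
    rw [hcv, ← cj_apply' φ a v, ← cj_apply', hcv, Matrix.mulVec_mulVec, Matrix.mulVec_mulVec, h1]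
  obtain ⟨g1, g2⟩ := elt_irr hr hj2 (coe_pow_one hyr) hyc
  obtain ⟨h1, h2⟩ := elt_irr hs hk2 (coe_pow_one hgs) hgc
  refine no_types' (K := KV) (J := tr J) hB hBH hirr ?_ hy hg (hne1 hj2 hyc) (hne1 hk2 hgc)
    (pow_half (coe_pow_one hyr) hr hj (by omega)) (pow_half (coe_pow_one hgs) hs hk (by omega)) hpar g1 h1 g2 h2
    (hcomm hy hyr hr hj2) (hcomm hg hgs hs hk2) ⟨J, hJK, htr J⟩ (by rw [htp, hJ2]) ?_
  · rintro a ha f ⟨c, hc, hcv⟩
    have h6 := ((hle ⟨a⁻¹, H.inv_mem ha, rfl⟩ : cj φ a⁻¹ ∈ subalgebraNormalizer K) c).1 hc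
    refine ⟨tr _, ⟨_, h6, htr _⟩, fun v => ?_⟩
    apply φ.injective
    rw [hcv, ← cj_apply' φ a v, ← cj_apply' φ a, htr, Matrix.mulVec_mulVec, Matrix.mulVec_mulVec]
    congr 1
    have h7 : (cj φ a : Matrix (Fin n) (Fin n) F) * (cj φ a⁻¹ : Matrix (Fin n) (Fin n) F) = 1 := by
      rw [← Units.val_mul, ← map_mul, mul_inv_cancel, map_one]; rfl
    have h8 : (((cj φ a⁻¹)⁻¹ : GL (Fin n) F) : Matrix (Fin n) (Fin n) F) = (cj φ a : Matrix (Fin n) (Fin n) F) := by
      rw [← map_inv, inv_inv]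
    rw [h8, ← Matrix.mul_assoc, ← Matrix.mul_assoc, h7, Matrix.one_mul]
  · intro w hw
    apply φ.injective
    rw [map_zero]
    apply hJinj
    rw [← htr, ← htr, ← hw, htp]

/-- **(T16.4, element form)** `y, g ∈ H` of orders `r`, `s` with `dim [V, y] = j = ord_r(q)`, `dim [V, g] = k = ord_s(q)`,
`j`, `k` even, `j / 2 + k / 2` odd: the irreducible group `H` of isometries of the polar form normalises no field of degree two -/
theorem sp_not_two_elt {Q : QuadraticForm F V} (hQ : Nondeg Q) (hH : ∀ h ∈ H, ∀ u v, polar Q (h u) (h v) = polar Q u v)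
    (hirr : ∀ W : Submodule F V, (∀ h ∈ H, ∀ w ∈ W, h w ∈ W) → W = ⊥ ∨ W = ⊤)
    {j k r s : ℕ} (hr : PP (Nat.card F) j r) (hs : PP (Nat.card F) k s)
    (hj : Even j) (hk : Even k) (hj2 : 2 ≤ j) (hk2 : 2 ≤ k) (hpar : Odd (j / 2 + k / 2))
    {y g : V ≃ₗ[F] V} (hy : y ∈ H) (hg : g ∈ H) (hyr : y ^ r = 1) (hgs : g ^ s = 1)
    (hyj : finrank F (fx (y : Module.End F V)) + j = finrank F V)
    (hgk : finrank F (fx (g : Module.End F V)) + k = finrank F V) (hA : AExt 2 H) : False := by
  have hnd : (polarBilin Q).Nondegenerate := by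
    refine ⟨fun u hu => hQ u hu, fun u hu => hQ u fun w => ?_⟩
    have := hu w
    rw [polar_comm]
    exact this
  exact bil_not_two_elt hnd (fun g hg u w => hH g hg u w) hirr hr hs hj hk hj2 hk2 hpar hy hg hyr hgs hyj hgk hA

end Abs

end Cfsg.Agent.H522.Rg
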